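import Mathlib
import Cfsg.Agent.KFacts.Unit.Cent

/-!
# One totally isotropic line of a unitary space in characteristic two

`tS e x : v ↦ v + x (v,e) e` (`x` fixed by `σ`), `mS e f μ : v ↦ v + σμ (v,e) f + μ (v,f) e`; the coordinates of the
unipotent radical of the pointwise stabiliser of the line `E = ⟨e, f⟩` and of its centre.
-/

set_option autoImplicit false

namespace Cfsg.Agent.KFacts.UniTwo

open Cfsg Cfsg.Agent.LieClassical.HermBasic Cfsg.Agent.LieClassical.HermSiegel
  Cfsg.Agent.LieClassical.HermGen Matrix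
  Cfsg.Agent.ClassicalGeometry.PSUAutBasic Cfsg.Agent.ClassicalGeometry.PSUAutSylow

variable {F : Type*} [Field F] {q n : ℕ}

section Two

theorem neg_two (two : ∀ x : F, x + x = 0) (x : F) : -x = x := neg_eq_of_add_eq_zero_left (two x)

theorem sub_two (two : ∀ x : F, x + x = 0) (x y : F) : x - y = x + y := by rw [sub_eq_add_neg, neg_two two]

end Two

/-- A line frame: `E = ⟨e, f⟩` totally isotropic, `E' = ⟨e', f'⟩` the dual line. -/
structure LF (q : ℕ) (e f e' f' : Fin n → F) : Prop where
  ee : hermForm n F q e e = 0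
  ff : hermForm n F q f f = 0
  ef : hermForm n F q e f = 0
  e'e' : hermForm n F q e' e' = 0
  f'f' : hermForm n F q f' f' = 0
  e'f' : hermForm n F q e' f' = 0
  ee' : hermForm n F q e e' = 1
  ff' : hermForm n F q f f' = 1
  ef' : hermForm n F q e f' = 0
  fe' : hermForm n F q f e' = 0

variable [Fintype F]

/-- The involutory automorphism of the field as a ring homomorphism. -/
def bar (hF : Fintype.card F = q ^ 2) : F →+* F := (conj hF : F ≃+* F)

theorem bar_apply (hF : Fintype.card F = q ^ 2) (x : F) : bar hF x = x ^ q := rfl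

theorem bar_bar (hF : Fintype.card F = q ^ 2) (x : F) : bar hF (bar hF x) = x := by
  rw [bar_apply, bar_apply, pow_q_pow_q hF]

theorem exists_bar_ne (hF : Fintype.card F = q ^ 2) : ∃ x : F, bar hF x ≠ x := exists_not_fixed hF

open Classical in
/-- The transvection `v ↦ v + x (v,e) e`. -/
noncomputable def tS (hF : Fintype.card F = q ^ 2) (e : Fin n → F) (x : F) : SU n F q :=
  if h : IsSiegel q e 0 x then siegel hF e 0 x h else 1

open Classical in
/-- `v ↦ v + σμ (v,e) f + μ (v,f) e`. -/
noncomputable def mS (hF : Fintype.card F = q ^ 2) (e f : Fin n → F) (μ : F) : SU n F q :=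
  if h : IsSiegel q e (μ ^ q • f) 0 then siegel hF e (μ ^ q • f) 0 h else 1

omit [Fintype F] in
theorem isSiegel_t (two : ∀ x : F, x + x = 0) {e : Fin n → F} (he : hermForm n F q e e = 0) {x : F}
    (hx : x ^ q = x) : IsSiegel q e 0 x := isSiegel_zero he (by rw [hx, two])

theorem isSiegel_m (hF : Fintype.card F = q ^ 2) {e f : Fin n → F} (he : hermForm n F q e e = 0)
    (hf : hermForm n F q f f = 0) (hef : hermForm n F q e f = 0) (μ : F) : IsSiegel q e (μ ^ q • f) 0 :=
  ⟨he, by rw [herm_smul_left, herm_eq_zero_swap hF hef, mul_zero],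
    by rw [zero_pow_q hF, herm_smul_left, herm_smul_right, hf]; ring⟩

theorem tS_eq (hF : Fintype.card F = q ^ 2) {e : Fin n → F} {x : F} (h : IsSiegel q e 0 x) :
    tS hF e x = siegel hF e 0 x h := by rw [tS, dif_pos h]

theorem mS_eq (hF : Fintype.card F = q ^ 2) {e f : Fin n → F} {μ : F} (h : IsSiegel q e (μ ^ q • f) 0) :
    mS hF e f μ = siegel hF e (μ ^ q • f) 0 h := by rw [mS, dif_pos h]

theorem act_tS (hF : Fintype.card F = q ^ 2) (two : ∀ x : F, x + x = 0) {e : Fin n → F}
    (he : hermForm n F q e e = 0) {x : F} (hx : x ^ q = x) (v : Fin n → F) :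
    act (tS hF e x) v = v + (x * hermForm n F q v e) • e := by
  rw [tS_eq hF (isSiegel_t two he hx), act_siegel, herm_zero_right hF, smul_zero, add_zero, sub_zero]

theorem act_mS (hF : Fintype.card F = q ^ 2) (two : ∀ x : F, x + x = 0) {e f : Fin n → F}
    (he : hermForm n F q e e = 0) (hf : hermForm n F q f f = 0) (hef : hermForm n F q e f = 0) (μ : F)
    (v : Fin n → F) :
    act (mS hF e f μ) v = v + (μ ^ q * hermForm n F q v e) • f + (μ * hermForm n F q v f) • e := by
  rw [mS_eq hF (isSiegel_m hF he hf hef μ), act_siegel, herm_smul_right, pow_q_pow_q hF, zero_mul, zero_sub,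
    neg_two two, smul_smul, mul_comm (hermForm n F q v e)]

variable {e f e' f' : Fin n → F}

namespace LF

/-- The other products. -/
theorem fe (H : LF q e f e' f') (hF : Fintype.card F = q ^ 2) : hermForm n F q f e = 0 := herm_eq_zero_swap hF H.ef
theorem f'e' (H : LF q e f e' f') (hF : Fintype.card F = q ^ 2) : hermForm n F q f' e' = 0 :=
  herm_eq_zero_swap hF H.e'f'
theorem e'e (H : LF q e f e' f') (hF : Fintype.card F = q ^ 2) : hermForm n F q e' e = 1 := by
  rw [herm_swap hF e e', H.ee', one_pow]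
theorem f'f (H : LF q e f e' f') (hF : Fintype.card F = q ^ 2) : hermForm n F q f' f = 1 := by
  rw [herm_swap hF f f', H.ff', one_pow]
theorem f'e (H : LF q e f e' f') (hF : Fintype.card F = q ^ 2) : hermForm n F q f' e = 0 :=
  herm_eq_zero_swap hF H.ef'
theorem e'f (H : LF q e f e' f') (hF : Fintype.card F = q ^ 2) : hermForm n F q e' f = 0 :=
  herm_eq_zero_swap hF H.fe'

/-- The frame with the roles of the two points interchanged. -/
theorem swap (H : LF q e f e' f') (hF : Fintype.card F = q ^ 2) : LF q f e f' e' :=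
  ⟨H.ff, H.ee, H.fe hF, H.f'f', H.e'e', H.f'e' hF, H.ff', H.ee', H.fe', H.ef'⟩

theorem act_te (H : LF q e f e' f') (hF : Fintype.card F = q ^ 2) (two : ∀ x : F, x + x = 0) {x : F} (hx : x ^ q = x)
    (v : Fin n → F) : act (tS hF e x) v = v + (x * hermForm n F q v e) • e := act_tS hF two H.ee hx v

theorem act_tf (H : LF q e f e' f') (hF : Fintype.card F = q ^ 2) (two : ∀ x : F, x + x = 0) {x : F} (hx : x ^ q = x)
    (v : Fin n → F) : act (tS hF f x) v = v + (x * hermForm n F q v f) • f := act_tS hF two H.ff hx v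

theorem act_m (H : LF q e f e' f') (hF : Fintype.card F = q ^ 2) (two : ∀ x : F, x + x = 0) (μ : F)
    (v : Fin n → F) :
    act (mS hF e f μ) v = v + (μ ^ q * hermForm n F q v e) • f + (μ * hermForm n F q v f) • e :=
  act_mS hF two H.ee H.ff H.ef μ v

theorem act_g (H : LF q e f e' f') (hF : Fintype.card F = q ^ 2) (two : ∀ x : F, x + x = 0) (l : F)
    (v : Fin n → F) :
    act (mS hF e f' l) v = v + (l ^ q * hermForm n F q v e) • f' + (l * hermForm n F q v f') • e :=
  act_mS hF two H.ee H.f'f' H.ef' l v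

theorem act_g_e (H : LF q e f e' f') (hF : Fintype.card F = q ^ 2) (two : ∀ x : F, x + x = 0) (l : F) :
    act (mS hF e f' l) e = e := by
  rw [H.act_g hF two, H.ee, H.ef']; simp

theorem act_g_f (H : LF q e f e' f') (hF : Fintype.card F = q ^ 2) (two : ∀ x : F, x + x = 0) (l : F) :
    act (mS hF e f' l) f = f + l • e := by
  rw [H.act_g hF two, H.fe hF, H.ff']; simp

theorem tS_add (hF : Fintype.card F = q ^ 2) (two : ∀ x : F, x + x = 0) (he : hermForm n F q e e = 0)
    {x y : F} (hx : x ^ q = x) (hy : y ^ q = y) : tS hF e (x + y) = tS hF e x * tS hF e y := by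
  apply ext_act
  intro v
  rw [act_mul, act_tS hF two he hx, act_tS hF two he hy, act_tS hF two he (by rw [add_pow_q hF, hx, hy]),
    herm_add_left, herm_smul_left, he]
  module

theorem mS_add (hF : Fintype.card F = q ^ 2) (two : ∀ x : F, x + x = 0) (he : hermForm n F q e e = 0)
    (hf : hermForm n F q f f = 0) (hef : hermForm n F q e f = 0) (x y : F) :
    mS hF e f (x + y) = mS hF e f x * mS hF e f y := by
  have hfe := herm_eq_zero_swap hF hef
  apply ext_act
  intro v
  rw [act_mul, act_mS hF two he hf hef, act_mS hF two he hf hef, act_mS hF two he hf hef, add_pow_q hF]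
  simp only [herm_add_left, herm_smul_left, he, hf, hef, hfe]
  module

theorem t_m (H : LF q e f e' f') (hF : Fintype.card F = q ^ 2) (two : ∀ x : F, x + x = 0) {x : F} (hx : x ^ q = x)
    (μ : F) : tS hF e x * mS hF e f μ = mS hF e f μ * tS hF e x := by
  apply ext_act
  intro v
  rw [act_mul, act_mul, H.act_te hF two hx, H.act_te hF two hx, H.act_m hF two, H.act_m hF two]
  simp only [herm_add_left, herm_smul_left, H.ee, H.ff, H.ef, H.fe hF]
  module

theorem t_t (H : LF q e f e' f') (hF : Fintype.card F = q ^ 2) (two : ∀ x : F, x + x = 0) {x y : F} (hx : x ^ q = x)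
    (hy : y ^ q = y) : tS hF e x * tS hF f y = tS hF f y * tS hF e x := by
  apply ext_act
  intro v
  rw [act_mul, act_mul, H.act_te hF two hx, H.act_te hF two hx, H.act_tf hF two hy, H.act_tf hF two hy]
  simp only [herm_add_left, herm_smul_left, H.ee, H.ff, H.ef, H.fe hF]
  module

theorem m_t (H : LF q e f e' f') (hF : Fintype.card F = q ^ 2) (two : ∀ x : F, x + x = 0) {y : F} (μ : F)
    (hy : y ^ q = y) : mS hF e f μ * tS hF f y = tS hF f y * mS hF e f μ := by
  apply ext_act
  intro v
  rw [act_mul, act_mul, H.act_m hF two, H.act_m hF two, H.act_tf hF two hy, H.act_tf hF two hy]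
  simp only [herm_add_left, herm_smul_left, H.ee, H.ff, H.ef, H.fe hF]
  module

theorem g_t (H : LF q e f e' f') (hF : Fintype.card F = q ^ 2) (two : ∀ x : F, x + x = 0) {x : F} (l : F)
    (hx : x ^ q = x) : mS hF e f' l * tS hF e x * (mS hF e f' l)⁻¹ = tS hF e x := by
  rw [mul_inv_eq_iff_eq_mul]
  apply ext_act
  intro v
  rw [act_mul, act_mul, H.act_g hF two, H.act_g hF two, H.act_te hF two hx, H.act_te hF two hx]
  simp only [herm_add_left, herm_smul_left, H.ee, H.ef', H.f'e hF]
  module

theorem g_m (H : LF q e f e' f') (hF : Fintype.card F = q ^ 2) (two : ∀ x : F, x + x = 0) (l μ : F) :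
    mS hF e f' l * mS hF e f μ * (mS hF e f' l)⁻¹ = mS hF e f μ * tS hF e (l * μ ^ q + l ^ q * μ) := by
  have hx : (l * μ ^ q + l ^ q * μ) ^ q = l * μ ^ q + l ^ q * μ := by
    rw [add_pow_q hF, mul_pow, mul_pow, pow_q_pow_q hF, pow_q_pow_q hF]; ring
  rw [mS_eq hF (isSiegel_m hF H.ee H.ff H.ef μ), conj_siegel, ← mS_eq hF (isSiegel_m hF H.ee H.ff H.ef μ)]
  apply ext_act
  intro v
  rw [act_siegel, act_mul, H.act_te hF two hx, H.act_m hF two, act_smul, H.act_g_e hF two, H.act_g_f hF two,
    zero_mul, zero_sub, neg_two two]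
  simp only [herm_add_left, herm_smul_left, herm_add_right hF, herm_smul_right, H.ee, H.ef, mul_pow, pow_q_pow_q hF]
  module

theorem g_tf (H : LF q e f e' f') (hF : Fintype.card F = q ^ 2) (two : ∀ x : F, x + x = 0) {y : F} (l : F)
    (hy : y ^ q = y) : mS hF e f' l * tS hF f y * (mS hF e f' l)⁻¹ =
      tS hF f y * mS hF e f (l * y) * tS hF e (l * l ^ q * y) := by
  have hx : (l * l ^ q * y) ^ q = l * l ^ q * y := by
    rw [mul_pow, norm_pow_q hF, hy]
  rw [tS_eq hF (isSiegel_t two H.ff hy), conj_siegel, ← tS_eq hF (isSiegel_t two H.ff hy)]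
  apply ext_act
  intro v
  rw [act_siegel, act_mul, act_mul, H.act_te hF two hx, H.act_m hF two, H.act_tf hF two hy, act_zero,
    H.act_g_f hF two, herm_zero_right hF, smul_zero, add_zero, sub_zero]
  simp only [herm_add_left, herm_smul_left, herm_add_right hF, herm_smul_right, H.ee, H.ef, H.ff, H.fe hF, mul_pow,
    hy]
  module

/-- The action of `A_E` on the dual line. -/
theorem act_A_e' (H : LF q e f e' f') (hF : Fintype.card F = q ^ 2) (two : ∀ x : F, x + x = 0) {x y : F} (μ : F)
    (hx : x ^ q = x) (hy : y ^ q = y) :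
    act (tS hF e x * mS hF e f μ * tS hF f y) e' = e' + x • e + μ ^ q • f := by
  rw [act_mul, act_mul, H.act_tf hF two hy, H.act_m hF two, H.act_te hF two hx]
  simp only [herm_add_left, herm_smul_left, H.ee, H.ef, H.ff, H.fe hF, H.e'e hF, H.e'f hF]
  module

theorem act_A_f' (H : LF q e f e' f') (hF : Fintype.card F = q ^ 2) (two : ∀ x : F, x + x = 0) {x y : F} (μ : F)
    (hx : x ^ q = x) (hy : y ^ q = y) :
    act (tS hF e x * mS hF e f μ * tS hF f y) f' = f' + μ • e + y • f := by
  rw [act_mul, act_mul, H.act_tf hF two hy, H.act_m hF two, H.act_te hF two hx]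
  simp only [herm_add_left, herm_smul_left, H.ee, H.ef, H.ff, H.fe hF, H.f'e hF, H.f'f hF]
  module

theorem act_A_perp (H : LF q e f e' f') (hF : Fintype.card F = q ^ 2) (two : ∀ x : F, x + x = 0) {x y : F} (μ : F)
    (hx : x ^ q = x) (hy : y ^ q = y) {v : Fin n → F} (h1 : hermForm n F q v e = 0) (h2 : hermForm n F q v f = 0) :
    act (tS hF e x * mS hF e f μ * tS hF f y) v = v := by
  rw [act_mul, act_mul, H.act_tf hF two hy, h2, mul_zero, zero_smul, add_zero, H.act_m hF two, h1, h2, mul_zero,
    zero_smul, add_zero, mul_zero, zero_smul, add_zero, H.act_te hF two hx, h1, mul_zero, zero_smul, add_zero]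

/-- Injectivity of the coordinates in `PSU`. -/
theorem inj (H : LF q e f e' f') (hF : Fintype.card F = q ^ 2) (two : ∀ x : F, x + x = 0) (hn : 3 ≤ n) {x μ y : F}
    (hx : x ^ q = x) (hy : y ^ q = y)
    (h : pr n F q (tS hF e x * mS hF e f μ * tS hF f y) = 1) : x = 0 ∧ μ = 0 ∧ y = 0 := by
  obtain ⟨c, -, -, hc⟩ := exists_scalar_of_mem_center hF hn (pr_eq_one_iff.1 h)
  have h1 := hc e'
  have h2 := hc f'
  rw [H.act_A_e' hF two μ hx hy] at h1
  rw [H.act_A_f' hF two μ hx hy] at h2
  have k1 := congrArg (fun v => hermForm n F q v e') h1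
  have k2 := congrArg (fun v => hermForm n F q v e') h2
  have k3 := congrArg (fun v => hermForm n F q v f') h2
  simp only [herm_add_left, herm_smul_left, H.e'e', H.ee', H.fe', H.f'e' hF, H.f'f', H.ef', H.ff', mul_zero, mul_one,
    add_zero, zero_add] at k1 k2 k3
  exact ⟨k1, k2, k3⟩

/-- `(E^⊥)^⊥ = E`. -/
theorem perp_perp (H : LF q e f e' f') (hF : Fintype.card F = q ^ 2) {u : Fin n → F}
    (hu : ∀ v, hermForm n F q v e = 0 → hermForm n F q v f = 0 → hermForm n F q u v = 0) :
    u = hermForm n F q u e' • e + hermForm n F q u f' • f := by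
  have hfe := H.fe hF
  have h1 : ∀ v, hermForm n F q (u - hermForm n F q u e' • e - hermForm n F q u f' • f) v = 0 := by
    intro v
    have hv : v = (v - hermForm n F q v e • e' - hermForm n F q v f • f') +
        (hermForm n F q v e • e' + hermForm n F q v f • f') := by abel
    have p1 : hermForm n F q (v - hermForm n F q v e • e' - hermForm n F q v f • f') e = 0 := by
      rw [herm_sub_left, herm_sub_left, herm_smul_left, herm_smul_left, H.e'e hF, H.f'e hF]; ring
    have p2 : hermForm n F q (v - hermForm n F q v e • e' - hermForm n F q v f • f') f = 0 := by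
      rw [herm_sub_left, herm_sub_left, herm_smul_left, herm_smul_left, H.e'f hF, H.f'f hF]; ring
    have p3 := hu _ p1 p2
    have p4 := herm_eq_zero_swap hF p1
    have p5 := herm_eq_zero_swap hF p2
    rw [hv, herm_add_right hF, herm_sub_left, herm_sub_left, herm_smul_left, herm_smul_left, p3, p4, p5]
    simp only [herm_sub_left, herm_smul_left, herm_add_right hF, herm_smul_right, H.ee', H.ef', H.fe', H.ff']
    ring
  have h2 := herm_nondeg hF h1
  rw [sub_sub, sub_eq_zero] at h2
  exact h2

/-- **An element trivial on `E^⊥` is in `A_E`.** -/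
theorem exists_coord (H : LF q e f e' f') (hF : Fintype.card F = q ^ 2) (two : ∀ x : F, x + x = 0) {g : SU n F q}
    (hg : ∀ v, hermForm n F q v e = 0 → hermForm n F q v f = 0 → act g v = v) :
    ∃ x μ y : F, x ^ q = x ∧ y ^ q = y ∧ g = tS hF e x * mS hF e f μ * tS hF f y := by
  have hge : act g e = e := hg e H.ee H.ef
  have hgf : act g f = f := hg f (H.fe hF) H.ff
  -- `g u - u` lies in `E`
  have key : ∀ u, act g u - u = hermForm n F q (act g u - u) e' • e + hermForm n F q (act g u - u) f' • f := by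
    intro u
    apply H.perp_perp hF
    intro v h1 h2
    rw [herm_sub_left]
    have h3 := herm_act g u v
    rw [hg v h1 h2] at h3
    rw [h3, sub_self]
  obtain ⟨a, ha⟩ : ∃ a, hermForm n F q (act g e' - e') e' = a := ⟨_, rfl⟩
  obtain ⟨b, hb⟩ : ∃ b, hermForm n F q (act g e' - e') f' = b := ⟨_, rfl⟩
  obtain ⟨c, hc⟩ : ∃ c, hermForm n F q (act g f' - f') e' = c := ⟨_, rfl⟩
  obtain ⟨d, hd⟩ : ∃ d, hermForm n F q (act g f' - f') f' = d := ⟨_, rfl⟩
  have h1 : act g e' = e' + a • e + b • f := by
    have := key e'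
    rw [ha, hb, sub_eq_iff_eq_add] at this
    rw [this]; abel
  have h2 : act g f' = f' + c • e + d • f := by
    have := key f'
    rw [hc, hd, sub_eq_iff_eq_add] at this
    rw [this]; abel
  have k1 := herm_act g e' e'
  have k2 := herm_act g f' f'
  have k3 := herm_act g e' f'
  rw [h1] at k1
  rw [h2] at k2
  rw [h1, h2] at k3
  simp only [herm_add_left, herm_smul_left, herm_add_right hF, herm_smul_right, H.ee, H.ef, H.ff, H.fe hF, H.ee', H.ef',
    H.fe', H.ff', H.e'e hF, H.e'f hF, H.f'e hF, H.f'f hF, H.e'e', H.e'f', H.f'f', mul_zero, add_zero, zero_add,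
    mul_one] at k1 k2 k3
  have ha' : a ^ q = a := by
    have := eq_neg_of_add_eq_zero_left k1
    rw [neg_two two] at this
    exact this.symm
  have hd' : d ^ q = d := by
    have := eq_neg_of_add_eq_zero_left k2
    rw [neg_two two] at this
    exact this.symm
  have hb' : b = c ^ q := by
    have h4 : b + c ^ q = 0 := by linear_combination k3
    have := eq_neg_of_add_eq_zero_left h4
    rw [neg_two two] at this
    exact this
  refine ⟨a, c, d, ha', hd', ?_⟩
  apply ext_act
  intro v
  have hv : v = (v - hermForm n F q v e • e' - hermForm n F q v f • f') +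
      (hermForm n F q v e • e' + hermForm n F q v f • f') := by abel
  have p1 : hermForm n F q (v - hermForm n F q v e • e' - hermForm n F q v f • f') e = 0 := by
    rw [herm_sub_left, herm_sub_left, herm_smul_left, herm_smul_left, H.e'e hF, H.f'e hF]; ring
  have p2 : hermForm n F q (v - hermForm n F q v e • e' - hermForm n F q v f • f') f = 0 := by
    rw [herm_sub_left, herm_sub_left, herm_smul_left, herm_smul_left, H.e'f hF, H.f'f hF]; ring
  rw [hv, act_add, act_add, act_smul, act_smul, hg _ p1 p2, h1, h2]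
  rw [act_add _ (v - hermForm n F q v e • e' - hermForm n F q v f • f'), act_add, act_smul, act_smul,
    H.act_A_perp hF two c ha' hd' p1 p2, H.act_A_e' hF two c ha' hd', H.act_A_f' hF two c ha' hd', hb']

end LF

end Cfsg.Agent.KFacts.UniTwo
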