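import Cfsg.Agent.KFacts.UniTwo.Elts

/-!
# Existence of line frames
-/

set_option autoImplicit false

namespace Cfsg.Agent.KFacts.UniTwo

open Cfsg Cfsg.Agent.LieClassical.HermBasic Cfsg.Agent.LieClassical.HermSiegel
  Cfsg.Agent.LieClassical.HermGen Matrix
  Cfsg.Agent.ClassicalGeometry.PSUAutBasic Cfsg.Agent.ClassicalGeometry.PSUAutSylow

variable {F : Type*} [Field F] [Fintype F] {q n : ℕ} {e f : Fin n → F}

/-- A vector with prescribed products with two independent vectors. -/
theorem exists_dual (hF : Fintype.card F = q ^ 2) (hind : ∀ a b : F, a • e + b • f = 0 → a = 0 ∧ b = 0) :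
    ∃ v, hermForm n F q e v = 1 ∧ hermForm n F q f v = 0 := by
  have hf0 : f ≠ 0 := by
    intro h
    have := (hind 0 1 (by rw [h, smul_zero, zero_smul, add_zero])).2
    exact one_ne_zero this
  obtain ⟨v0, hv0⟩ := exists_herm_ne_zero hF hf0
  -- normalise
  obtain ⟨v1, hv1⟩ : ∃ v1, hermForm n F q f v1 = 1 := by
    refine ⟨((hermForm n F q f v0)⁻¹) ^ q • v0, ?_⟩
    rw [herm_smul_right, pow_q_pow_q hF, inv_mul_cancel₀ hv0]
  have h1 : e - hermForm n F q e v1 • f ≠ 0 := by
    intro h
    have := (hind 1 (-hermForm n F q e v1) (by rw [one_smul, neg_smul, ← sub_eq_add_neg, h])).1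
    exact one_ne_zero this
  obtain ⟨v, hv⟩ := exists_herm_ne_zero hF h1
  have h2 : hermForm n F q f (v - hermForm n F q f v ^ q • v1) = 0 := by
    rw [herm_sub_right hF, herm_smul_right, pow_q_pow_q hF, hv1, mul_one, sub_self]
  have h3 : hermForm n F q e (v - hermForm n F q f v ^ q • v1) ≠ 0 := by
    rw [herm_sub_right hF, herm_smul_right, pow_q_pow_q hF]
    rw [herm_sub_left, herm_smul_left] at hv
    rwa [mul_comm]
  set v2 := v - hermForm n F q f v ^ q • v1 with hv2
  refine ⟨((hermForm n F q e v2)⁻¹) ^ q • v2, ?_, ?_⟩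
  · rw [herm_smul_right, pow_q_pow_q hF, inv_mul_cancel₀ h3]
  · rw [herm_smul_right, h2, mul_zero]

/-- Every pair of independent orthogonal isotropic vectors belongs to a line frame. -/
theorem exists_LF_of (hF : Fintype.card F = q ^ 2) (he : hermForm n F q e e = 0) (hf : hermForm n F q f f = 0)
    (hef : hermForm n F q e f = 0) (hind : ∀ a b : F, a • e + b • f = 0 → a = 0 ∧ b = 0) :
    ∃ e' f', LF q e f e' f' := by
  have hfe := herm_eq_zero_swap hF hef
  obtain ⟨x, hx1, hx2⟩ := exists_dual hF hind
  have hx1' : hermForm n F q x e = 1 := by rw [herm_swap hF e x, hx1, one_pow]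
  have hx2' := herm_eq_zero_swap hF hx2
  obtain ⟨c, hc⟩ := exists_trace_eq hF (c := -hermForm n F q x x) (by rw [neg_pow_q hF, herm_self_pow hF])
  obtain ⟨y, hy1, hy2⟩ := exists_dual hF (e := f) (f := e) (by
    intro a b h
    exact (hind b a (by rw [add_comm]; exact h)).symm)
  have hy1' : hermForm n F q y f = 1 := by rw [herm_swap hF f y, hy1, one_pow]
  have hy2' := herm_eq_zero_swap hF hy2
  set e' := x + c • e with he'
  have k1 : hermForm n F q e e' = 1 := by rw [he', herm_add_right hF, herm_smul_right, hx1, he, mul_zero, add_zero]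
  have k1' : hermForm n F q e' e = 1 := by rw [herm_swap hF e e', k1, one_pow]
  have k2 : hermForm n F q f e' = 0 := by rw [he', herm_add_right hF, herm_smul_right, hx2, hfe, mul_zero, add_zero]
  have k2' := herm_eq_zero_swap hF k2
  have k3 : hermForm n F q e' e' = 0 := by
    rw [he']
    simp only [herm_add_left, herm_smul_left, herm_add_right hF, herm_smul_right, hx1, hx1', he]
    linear_combination hc
  set y2 := y - hermForm n F q y e' • e with hy2d
  have m1 : hermForm n F q e' y2 = 0 := by
    rw [hy2d, herm_sub_right hF, herm_smul_right, k1', ← herm_swap hF y e', mul_one, sub_self]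
  have m1' := herm_eq_zero_swap hF m1
  have m2 : hermForm n F q e y2 = 0 := by
    rw [hy2d, herm_sub_right hF, herm_smul_right, he, hy2, mul_zero, sub_zero]
  have m3 : hermForm n F q f y2 = 1 := by
    rw [hy2d, herm_sub_right hF, herm_smul_right, hfe, hy1, mul_zero, sub_zero]
  have m3' : hermForm n F q y2 f = 1 := by rw [herm_swap hF f y2, m3, one_pow]
  obtain ⟨d, hd⟩ := exists_trace_eq hF (c := -hermForm n F q y2 y2) (by rw [neg_pow_q hF, herm_self_pow hF])
  refine ⟨e', y2 + d • f, he, hf, hef, k3, ?_, ?_, k1, ?_, ?_, k2⟩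
  · simp only [herm_add_left, herm_smul_left, herm_add_right hF, herm_smul_right, m3, m3', hf]
    linear_combination hd
  · rw [herm_add_right hF, herm_smul_right, m1, k2', mul_zero, add_zero]
  · rw [herm_add_right hF, herm_smul_right, m3, hf, mul_zero, add_zero]
  · rw [herm_add_right hF, herm_smul_right, m2, hef, mul_zero, add_zero]

/-- Every isotropic vector belongs to a line frame. -/
theorem exists_LF (hF : Fintype.card F = q ^ 2) (hn : 4 ≤ n) (he0 : e ≠ 0) (he : hermForm n F q e e = 0) :
    ∃ f e' f', LF q e f e' f' := by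
  obtain ⟨w, w', hwe, hw'e, hww, hw'w', hww'⟩ := Cfsg.Agent.KFacts.Unit.exists_pair_of_iso hF hn he0 he
  have hew' := herm_eq_zero_swap hF hw'e
  obtain ⟨e', f', H⟩ := exists_LF_of hF he hww (herm_eq_zero_swap hF hwe) (by
    intro a b hab
    have h1 := congrArg (fun v => hermForm n F q v w') hab
    simp only [herm_add_left, herm_smul_left, hew', hww', herm_zero_left, mul_zero, zero_add, mul_one] at h1
    rw [h1, zero_smul, add_zero] at hab
    exact ⟨(smul_eq_zero.1 hab).resolve_right he0, h1⟩)
  exact ⟨w, e', f', H⟩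

/-- Orthogonal isotropic vectors spanning different points are independent. -/
theorem indep_of_ne (hf0 : f ≠ 0) (h : ∀ a : F, f ≠ a • e) (he0 : e ≠ 0) :
    ∀ a b : F, a • e + b • f = 0 → a = 0 ∧ b = 0 := by
  intro a b hab
  by_cases hb : b = 0
  · rw [hb, zero_smul, add_zero] at hab
    exact ⟨(smul_eq_zero.1 hab).resolve_right he0, hb⟩
  · exfalso
    apply h (-(b⁻¹ * a))
    have h1 : b • f = -(a • e) := eq_neg_of_add_eq_zero_right hab
    calc f = b⁻¹ • (b • f) := by rw [smul_smul, inv_mul_cancel₀ hb, one_smul]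
      _ = _ := by rw [h1, smul_neg, smul_smul, neg_smul]

end Cfsg.Agent.KFacts.UniTwo
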