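import Cfsg.Agent.KFacts.UniTwo.Elts
import Cfsg.Agent.OddHalf.D7.Uni.Defs

/-!
# The structures `Coord`, `Line` and `Tor` for `PSU n F q` in the centralizer of an involution

`Emb t ι`: the image of `ι : P →* G` is normal in `C(t)` with centralizer `⟨t⟩`. `Dbl hF t ι e W`: `W` is a double of the
transvection group of the isotropic vector `e` which is centralised by the stabiliser of `e` and normalised by the
stabiliser of the point `F e`.
-/

set_option autoImplicit false

namespace Cfsg.Agent.KFacts.UniTwo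

open Cfsg Cfsg.Agent.LieClassical.HermBasic Cfsg.Agent.LieClassical.HermSiegel
  Cfsg.Agent.LieClassical.HermGen Matrix
  Cfsg.Agent.ClassicalGeometry.PSUAutBasic Cfsg.Agent.ClassicalGeometry.PSUAutSylow
  Cfsg.Agent.ClassicalGeometry.PSUAutTorus Cfsg.Agent.OddHalf.D7.Uni.Defs

/-- The image of `ι` is normal in `C(t)` and its centralizer in `C(t)` is `⟨t⟩`. -/
structure Emb {P G : Type*} [Group P] [Group G] (t : G) (ι : P →* G) : Prop where
  inj : Function.Injective ι
  tt : t * t = 1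
  comm : ∀ k, ι k * t = t * ι k
  nrm : ∀ c, c * t = t * c → ∀ a, ∃ b, c * ι a * c⁻¹ = ι b
  cen : ∀ c, c * t = t * c → (∀ a, c * ι a = ι a * c) → c = 1 ∨ c = t

namespace Emb

variable {P G : Type*} [Group P] [Group G] {t : G} {ι : P →* G}

/-- An element of `C(t)` induces an automorphism. -/
theorem exists_aut (E : Emb t ι) {c : G} (hc : c * t = t * c) : ∃ α : MulAut P, ∀ a, ι (α a) = c * ι a * c⁻¹ := by
  have hc' : c⁻¹ * t = t * c⁻¹ := by
    rw [inv_mul_eq_iff_eq_mul, ← mul_assoc, hc, mul_inv_cancel_right]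
  choose φ hφ using E.nrm c hc
  choose ψ hψ using E.nrm c⁻¹ hc'
  refine ⟨{ toFun := φ, invFun := ψ, left_inv := ?_, right_inv := ?_, map_mul' := ?_ }, fun a => (hφ a).symm⟩
  · intro a
    apply E.inj
    rw [← hψ, ← hφ]; group
  · intro a
    apply E.inj
    rw [← hφ, ← hψ]; group
  · intro a b
    apply E.inj
    rw [map_mul, ← hφ, ← hφ, ← hφ, map_mul]; group

/-- An element of `C(t)` inducing an inner automorphism. -/
theorem eq_of_conj (E : Emb t ι) {c : G} (hc : c * t = t * c) {k : P} (h : ∀ a, c * ι a * c⁻¹ = ι (k * a * k⁻¹)) :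
    c = ι k ∨ c = t * ι k := by
  have h1 : (ι k)⁻¹ * t = t * (ι k)⁻¹ := by
    rw [inv_mul_eq_iff_eq_mul, ← mul_assoc, E.comm, mul_inv_cancel_right]
  rcases E.cen (c * (ι k)⁻¹) (by rw [mul_assoc, h1, ← mul_assoc, hc, mul_assoc]) (by
      intro a
      have h2 := h (k⁻¹ * a * k)
      have h3 : k * (k⁻¹ * a * k) * k⁻¹ = a := by group
      rw [h3, map_mul, map_mul, map_inv] at h2
      calc c * (ι k)⁻¹ * ι a = c * ((ι k)⁻¹ * ι a * ι k) * c⁻¹ * (c * (ι k)⁻¹) := by group
        _ = ι a * (c * (ι k)⁻¹) := by rw [h2]) with h2 | h2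
  · exact Or.inl (mul_inv_eq_one.mp h2)
  · exact Or.inr (by rw [← h2, inv_mul_cancel_right])

end Emb

variable {F : Type*} [Field F] [Fintype F] {q n : ℕ} {G : Type*} [Group G] {t : G} {ι : PSU n F q →* G}

/-- `W` is a double of the transvection group of `e`, centralised by the stabiliser of the vector `e` and
normalised by the stabiliser of the point `F e`. -/
structure Dbl (hF : Fintype.card F = q ^ 2) (t : G) (ι : PSU n F q →* G) (e : Fin n → F) (W : Subgroup G) : Prop where
  dbl : Double (bar hF) t (fun x => ι (pr n F q (tS hF e x))) W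
  cent : ∀ g : SU n F q, act g e = e → ∀ w ∈ W, ι (pr n F q g) * w = w * ι (pr n F q g)
  norm : ∀ (g : SU n F q) (a : F), act g e = a • e → ∀ w ∈ W, ι (pr n F q g) * w * (ι (pr n F q g))⁻¹ ∈ W

/-- The pointwise stabiliser of `E` acting trivially on `E^⊥ / E`. -/
def OE0 (q : ℕ) {n : ℕ} (e f : Fin n → F) : Subgroup (SU n F q) where
  carrier := {g | act g e = e ∧ act g f = f ∧ ∀ v, hermForm n F q v e = 0 → hermForm n F q v f = 0 →
    ∃ a b : F, act g v = v + a • e + b • f}
  one_mem' := ⟨act_one _, act_one _, fun v _ _ => ⟨0, 0, by rw [act_one]; simp⟩⟩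
  mul_mem' := by
    rintro g h ⟨h1, h2, h3⟩ ⟨k1, k2, k3⟩
    refine ⟨by rw [act_mul, k1, h1], by rw [act_mul, k2, h2], ?_⟩
    intro v h4 h5
    obtain ⟨a, b, hab⟩ := k3 v h4 h5
    obtain ⟨c, d, hcd⟩ := h3 v h4 h5
    refine ⟨c + a, d + b, ?_⟩
    rw [act_mul, hab, act_add, act_add, act_smul, act_smul, h1, h2, hcd]
    module
  inv_mem' := by
    rintro g ⟨h1, h2, h3⟩
    have e1 : act g⁻¹ e = e := ((act_eq_iff _).1 h1).symm
    have e2 : act g⁻¹ f = f := ((act_eq_iff _).1 h2).symm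
    refine ⟨e1, e2, ?_⟩
    intro v h4 h5
    have h6 : hermForm n F q (act g⁻¹ v) e = 0 := by rw [herm_act_left, inv_inv, h1, h4]
    have h7 : hermForm n F q (act g⁻¹ v) f = 0 := by rw [herm_act_left, inv_inv, h2, h5]
    obtain ⟨a, b, hab⟩ := h3 _ h6 h7
    rw [act_act_inv] at hab
    refine ⟨-a, -b, ?_⟩
    calc act g⁻¹ v = (act g⁻¹ v + a • e + b • f) + (-a) • e + (-b) • f := by module
      _ = v + (-a) • e + (-b) • f := by rw [← hab]

omit [Fintype F] in
theorem mem_OE0 {e f : Fin n → F} {g : SU n F q} : g ∈ OE0 q e f ↔ act g e = e ∧ act g f = f ∧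
    ∀ v, hermForm n F q v e = 0 → hermForm n F q v f = 0 → ∃ a b : F, act g v = v + a • e + b • f := Iff.rfl

/-- The image of `OE0` in `G`. -/
def OE (ι : PSU n F q →* G) (e f : Fin n → F) : Subgroup G := ((OE0 q e f).map (pr n F q)).map ι

omit [Fintype F] in
theorem mem_OE {e f : Fin n → F} {c : G} : c ∈ OE ι e f ↔ ∃ g ∈ OE0 q e f, ι (pr n F q g) = c := by
  constructor
  · rintro ⟨_, ⟨g, hg, rfl⟩, rfl⟩
    exact ⟨g, hg, rfl⟩
  · rintro ⟨g, hg, rfl⟩
    exact ⟨_, ⟨g, hg, rfl⟩, rfl⟩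

variable {e f e' f' : Fin n → F}

/-- Elements fixing `e` commute with the transvections of `e`. -/
theorem comm_tS (hF : Fintype.card F = q ^ 2) (two : ∀ x : F, x + x = 0) (he : hermForm n F q e e = 0) {x : F}
    (hx : x ^ q = x) {g : SU n F q} (hg : act g e = e) : g * tS hF e x = tS hF e x * g := by
  rw [← mul_inv_eq_iff_eq_mul, tS_eq hF (isSiegel_t two he hx), conj_siegel]
  exact siegel_congr hF _ _ hg (act_zero g) rfl

/-- Elements fixing `e` and `f` commute with `mS e f μ`. -/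
theorem comm_mS (hF : Fintype.card F = q ^ 2) (he : hermForm n F q e e = 0) (hf : hermForm n F q f f = 0)
    (hef : hermForm n F q e f = 0) (μ : F) {g : SU n F q} (hg : act g e = e) (hg' : act g f = f) :
    g * mS hF e f μ = mS hF e f μ * g := by
  rw [← mul_inv_eq_iff_eq_mul, mS_eq hF (isSiegel_m hF he hf hef μ), conj_siegel]
  exact siegel_congr hF _ _ hg (by rw [act_smul, hg']) rfl

namespace LF

theorem tS_zero (H : LF q e f e' f') (hF : Fintype.card F = q ^ 2) (two : ∀ x : F, x + x = 0) :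
    tS hF e 0 = 1 := by
  apply ext_act
  intro v
  rw [H.act_te hF two (zero_pow_q hF), act_one, zero_mul, zero_smul, add_zero]

theorem mS_zero (H : LF q e f e' f') (hF : Fintype.card F = q ^ 2) (two : ∀ x : F, x + x = 0) :
    mS hF e f 0 = 1 := by
  apply ext_act
  intro v
  rw [H.act_m hF two, act_one, zero_mul, zero_pow_q hF, zero_mul, zero_smul, zero_smul, add_zero, add_zero]

/-- **`Coord` for a line frame.** -/
theorem coord (H : LF q e f e' f') (hF : Fintype.card F = q ^ 2) (two : ∀ x : F, x + x = 0) (hn : 3 ≤ n)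
    (E : Emb t ι) :
    Coord (bar hF) t (fun x => ι (pr n F q (tS hF e x))) (fun y => ι (pr n F q (tS hF f y)))
      (fun μ => ι (pr n F q (mS hF e f μ))) (fun l => ι (pr n F q (mS hF e f' l))) where
  tt := E.tt
  two := two
  σσ := bar_bar hF
  nt := exists_bar_ne hF
  np_add x y hx hy := by rw [tS_add hF two H.ee hx hy, map_mul, map_mul]
  nr_add x y hx hy := by rw [tS_add hF two H.ff hx hy, map_mul, map_mul]
  m_add x y := by rw [mS_add hF two H.ee H.ff H.ef x y, map_mul, map_mul]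
  np_m x y hx := by rw [← map_mul, ← map_mul, H.t_m hF two hx y, map_mul, map_mul]
  np_nr x y hx hy := by rw [← map_mul, ← map_mul, H.t_t hF two hx hy, map_mul, map_mul]
  m_nr x y hy := by rw [← map_mul, ← map_mul, H.m_t hF two x hy, map_mul, map_mul]
  inj x μ y hx hy h := by
    rw [← map_mul, ← map_mul, ← map_mul, ← map_mul] at h
    exact H.inj hF two hn hx hy (E.inj (h.trans (map_one ι).symm))
  t_np x _ := (E.comm _).symm
  t_nr x _ := (E.comm _).symm
  t_m x := (E.comm _).symm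
  t_g x := (E.comm _).symm
  g_add x y := by rw [mS_add hF two H.ee H.f'f' H.ef' x y, map_mul, map_mul]
  g_np l x hx := by
    rw [← map_inv, ← map_mul, ← map_mul, ← map_inv, ← map_mul, ← map_mul, H.g_t hF two l hx]
  g_m l μ := by
    rw [← map_inv, ← map_mul, ← map_mul, ← map_inv, ← map_mul, ← map_mul, H.g_m hF two l μ, map_mul, map_mul]
    rfl
  g_nr l y hy := by
    rw [← map_inv, ← map_mul, ← map_mul, ← map_inv, ← map_mul, ← map_mul, H.g_tf hF two l hy, map_mul, map_mul,
      map_mul, map_mul]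
    rfl

/-- **(K2)**: the centralizer of `OE`. -/
theorem K2 (H : LF q e f e' f') (hF : Fintype.card F = q ^ 2) (two : ∀ x : F, x + x = 0) (hn : 4 ≤ n)
    (E : Emb t ι) {c : G} (hc : c * t = t * c) (hO : ∀ o ∈ OE ι e f, c * o = o * c) :
    ∃ x μ y : F, x ^ q = x ∧ y ^ q = y ∧ (c = ι (pr n F q (tS hF e x * mS hF e f μ * tS hF f y)) ∨
      c = t * ι (pr n F q (tS hF e x * mS hF e f μ * tS hF f y))) := by
  obtain ⟨α, hα⟩ := E.exists_aut hc
  have hfe := H.fe hF
  -- the subspace `E`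
  set W : Submodule F (Fin n → F) := Submodule.span F {e, f} with hW
  have hmem : ∀ s, s ∈ W ↔ ∃ a b : F, a • e + b • f = s := fun s => Submodule.mem_span_pair
  have heW : e ∈ W := Submodule.subset_span (by simp)
  have hfW : f ∈ W := Submodule.subset_span (by simp)
  have hperp : ∀ v, (∀ s ∈ W, hermForm n F q v s = 0) ↔ hermForm n F q v e = 0 ∧ hermForm n F q v f = 0 := by
    intro v
    constructor
    · intro h; exact ⟨h e heW, h f hfW⟩
    · rintro ⟨h1, h2⟩ s hs
      obtain ⟨a, b, rfl⟩ := (hmem s).1 hs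
      rw [herm_add_right hF, herm_smul_right, herm_smul_right, h1, h2, mul_zero, mul_zero, add_zero]
  obtain ⟨g, hg, hαg⟩ := Cfsg.Agent.KFacts.Unit.autCent_sub hF hn W (by
      intro s hs s' hs'
      obtain ⟨a, b, rfl⟩ := (hmem s).1 hs
      rw [herm_add_left, herm_smul_left, herm_smul_left, ((hperp e).2 ⟨H.ee, H.ef⟩) s' hs',
        ((hperp f).2 ⟨hfe, H.ff⟩) s' hs', mul_zero, mul_zero, add_zero]) heW hfW (by
      intro a b hab
      have k1 := congrArg (fun v => hermForm n F q v e') hab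
      have k2 := congrArg (fun v => hermForm n F q v f') hab
      simp only [herm_add_left, herm_smul_left, H.ee', H.fe', H.ef', H.ff', herm_zero_left, mul_one, mul_zero,
        add_zero, zero_add] at k1 k2
      exact ⟨k1, k2⟩) α (by
      intro s hs _ w hw μ h
      have hw' := (hperp w).1 hw
      apply E.inj
      rw [hα, mul_inv_eq_iff_eq_mul]
      apply hO
      rw [mem_OE]
      refine ⟨_, ?_, rfl⟩
      have hs' := (hperp s).1 (fun s' hs' => by
        obtain ⟨a, b, rfl⟩ := (hmem s).1 hs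
        rw [herm_add_left, herm_smul_left, herm_smul_left, ((hperp e).2 ⟨H.ee, H.ef⟩) s' hs',
          ((hperp f).2 ⟨hfe, H.ff⟩) s' hs', mul_zero, mul_zero, add_zero])
      rw [mem_OE0]
      refine ⟨?_, ?_, ?_⟩
      · exact act_siegel_of_orth hF h (herm_eq_zero_swap hF hs'.1) (herm_eq_zero_swap hF hw'.1)
      · exact act_siegel_of_orth hF h (herm_eq_zero_swap hF hs'.2) (herm_eq_zero_swap hF hw'.2)
      · intro v h1 h2
        obtain ⟨a, b, hab⟩ := (hmem s).1 hs
        have h3 : hermForm n F q v s = 0 := by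
          rw [← hab, herm_add_right hF, herm_smul_right, herm_smul_right, h1, h2, mul_zero, mul_zero, add_zero]
        refine ⟨-hermForm n F q v w * a, -hermForm n F q v w * b, ?_⟩
        rw [act_siegel, h3, ← hab]
        module)
  obtain ⟨x, μ, y, hx, hy, hgA⟩ := H.exists_coord hF two (g := g) (fun v h1 h2 => hg v ((hperp v).2 ⟨h1, h2⟩))
  refine ⟨x, μ, y, hx, hy, ?_⟩
  rw [← hgA]
  apply E.eq_of_conj hc
  intro a
  rw [← hα, hαg, MulAut.conj_apply]

/-- **`Line` for a line frame.** -/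
theorem line (H : LF q e f e' f') (hF : Fintype.card F = q ^ 2) (two : ∀ x : F, x + x = 0) (hn : 4 ≤ n)
    (E : Emb t ι) {Wp Wr : Subgroup G} (hp : Dbl hF t ι e Wp) (hr : Dbl hF t ι f Wr) :
    Line (bar hF) t (OE ι e f) Wp Wr (fun x => ι (pr n F q (tS hF e x))) (fun y => ι (pr n F q (tS hF f y)))
      (fun μ => ι (pr n F q (mS hF e f μ))) (fun l => ι (pr n F q (mS hF e f' l))) where
  toCoord := H.coord hF two (by omega) E
  dp := hp.dbl
  dr := hr.dbl
  p_m w hw x := (hp.cent _ (by rw [H.act_m hF two, H.ee, H.ef]; simp) w hw).symm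
  p_nr w hw x hx := (hp.cent _ (by rw [H.act_tf hF two hx, H.ef]; simp) w hw).symm
  r_m w hw x := (hr.cent _ (by rw [H.act_m hF two, H.fe hF, H.ff]; simp) w hw).symm
  r_np w hw x hx := (hr.cent _ (by rw [H.act_te hF two hx, H.fe hF]; simp) w hw).symm
  g_p l w hw := hp.cent _ (H.act_g_e hF two l) w hw
  O_p c hc w hw := by
    obtain ⟨g, hg, rfl⟩ := mem_OE.1 hc
    exact hp.cent g (mem_OE0.1 hg).1 w hw
  O_r c hc w hw := by
    obtain ⟨g, hg, rfl⟩ := mem_OE.1 hc
    exact hr.cent g (mem_OE0.1 hg).2.1 w hw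
  O_m c hc μ := by
    obtain ⟨g, hg, rfl⟩ := mem_OE.1 hc
    rw [← map_mul, ← map_mul, comm_mS hF H.ee H.ff H.ef μ (mem_OE0.1 hg).1 (mem_OE0.1 hg).2.1, map_mul, map_mul]
  g_O l c hc := by
    obtain ⟨g, hg, rfl⟩ := mem_OE.1 hc
    rw [← map_inv, ← map_mul, ← map_mul, ← map_inv, ← map_mul, ← map_mul]
    refine mem_OE.2 ⟨_, ?_, rfl⟩
    obtain ⟨h1, h2, h3⟩ := mem_OE0.1 hg
    have k1 := H.act_g_e hF two l
    have k2 := H.act_g_f hF two l
    set s := mS hF e f' l with hs
    have e1 : act s⁻¹ e = e := ((act_eq_iff _).1 k1).symm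
    have e2 : act s⁻¹ (f + l • e) = f := ((act_eq_iff _).1 k2).symm
    have e3 : act s⁻¹ f = f - l • e := by
      rw [act_add, act_smul, e1] at e2
      exact eq_sub_of_add_eq e2
    refine mem_OE0.2 ⟨?_, ?_, ?_⟩
    · rw [act_mul, act_mul, k1, h1, e1]
    · rw [act_mul, act_mul, k2, act_add, act_smul, h1, h2, e2]
    · intro v h4 h5
      have h6 : hermForm n F q (act s v) e = 0 := by rw [herm_act_left, e1, h4]
      have h7 : hermForm n F q (act s v) f = 0 := by
        rw [herm_act_left, e3, herm_sub_right hF, herm_smul_right, h4, h5, mul_zero, sub_zero]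
      obtain ⟨a, b, hab⟩ := h3 _ h6 h7
      refine ⟨a - b * l, b, ?_⟩
      rw [act_mul, act_mul, hab, act_add, act_add, act_smul, act_smul, act_inv_act, e1, e3]
      module
  K2 c hc hO := by
    obtain ⟨x, μ, y, hx, hy, h⟩ := H.K2 hF two hn E hc hO
    refine ⟨x, μ, y, hx, hy, ?_⟩
    rwa [map_mul, map_mul, map_mul, map_mul] at h

end LF

end Cfsg.Agent.KFacts.UniTwo
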