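import Cfsg.Agent.KFacts.UniTwo.Line
import Cfsg.Agent.OddHalf.D7.Uni.Line

/-!
# Torus elements at a line frame and the structure `Tor`
-/

set_option autoImplicit false

namespace Cfsg.Agent.KFacts.UniTwo

open Cfsg Cfsg.Agent.LieClassical.HermBasic Cfsg.Agent.LieClassical.HermSiegel
  Cfsg.Agent.LieClassical.HermGen Matrix
  Cfsg.Agent.ClassicalGeometry.PSUAutBasic Cfsg.Agent.ClassicalGeometry.PSUAutSylow
  Cfsg.Agent.ClassicalGeometry.PSUAutTorus Cfsg.Agent.OddHalf.D7.Uni.Defs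

variable {F : Type*} [Field F] [Fintype F] {q n : ℕ} {G : Type*} [Group G] {t : G} {ι : PSU n F q →* G}
  {e f e' f' : Fin n → F}

theorem exists_norm_one_ne (hF : Fintype.card F = q ^ 2) : ∃ s : F, s * s ^ q = 1 ∧ s ≠ 1 := by
  have h1 := card_norm_eq_one hF
  have h2 := two_le hF
  by_contra hcon
  push Not at hcon
  have h3 : Nat.card {x : F // x * x ^ q = 1} ≤ 1 := by
    rw [Finite.card_le_one_iff_subsingleton]
    refine ⟨fun a b => Subtype.ext ?_⟩
    rw [hcon _ a.2, hcon _ b.2]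
  omega

namespace LF

/-- `diag(a, b)` on `E`. -/
def dS (hF : Fintype.card F = q ^ 2) (H : LF q e f e' f') (a b : F) (ha : a ≠ 0) (hb : b ≠ 0)
    (hab : (a * b) ^ q = a * b) : SU n F q :=
  mkSU (hypMat q e e' a * hypMat q f f' b) (by
    rw [Matrix.det_mul, det_hypMat H.ee' (H.e'e hF), det_hypMat H.ff' (H.f'f hF)]
    have h1 : a ^ q ≠ 0 := pow_ne_zero _ ha
    have h2 : b ^ q ≠ 0 := pow_ne_zero _ hb
    field_simp
    rw [← mul_pow, hab]) (by
    intro u v
    rw [← Matrix.mulVec_mulVec, ← Matrix.mulVec_mulVec, hypMat_herm hF H.ee H.e'e' H.ee' ha,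
      hypMat_herm hF H.ff H.f'f' H.ff' hb])

theorem act_dS (hF : Fintype.card F = q ^ 2) (H : LF q e f e' f') {a b : F} (ha : a ≠ 0) (hb : b ≠ 0)
    (hab : (a * b) ^ q = a * b) (v : Fin n → F) :
    act (H.dS hF a b ha hb hab) v = v + (((b ^ q)⁻¹ - 1) * hermForm n F q v f) • f' +
      ((b - 1) * hermForm n F q v f') • f + (((a ^ q)⁻¹ - 1) * hermForm n F q v e) • e' +
      ((a - 1) * hermForm n F q v e') • e := by
  rw [act_def, dS, mat_mkSU, ← Matrix.mulVec_mulVec, hypMat_mulVec H.f'f', hypMat_mulVec H.e'e']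
  simp only [herm_add_left, herm_smul_left, H.f'e hF, H.fe hF, H.f'e' hF, H.fe', mul_zero, add_zero]

theorem dS_e (hF : Fintype.card F = q ^ 2) (H : LF q e f e' f') {a b : F} (ha : a ≠ 0) (hb : b ≠ 0)
    (hab : (a * b) ^ q = a * b) : act (H.dS hF a b ha hb hab) e = a • e := by
  rw [act_dS, H.ef, H.ef', H.ee, H.ee']
  module

theorem dS_f (hF : Fintype.card F = q ^ 2) (H : LF q e f e' f') {a b : F} (ha : a ≠ 0) (hb : b ≠ 0)
    (hab : (a * b) ^ q = a * b) : act (H.dS hF a b ha hb hab) f = b • f := by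
  rw [act_dS, H.fe hF, H.fe', H.ff, H.ff']
  module

theorem dS_e' (hF : Fintype.card F = q ^ 2) (H : LF q e f e' f') {a b : F} (ha : a ≠ 0) (hb : b ≠ 0)
    (hab : (a * b) ^ q = a * b) : act (H.dS hF a b ha hb hab) e' = (a ^ q)⁻¹ • e' := by
  rw [act_dS, H.e'f hF, H.e'f', H.e'e hF, H.e'e']
  module

theorem dS_f' (hF : Fintype.card F = q ^ 2) (H : LF q e f e' f') {a b : F} (ha : a ≠ 0) (hb : b ≠ 0)
    (hab : (a * b) ^ q = a * b) : act (H.dS hF a b ha hb hab) f' = (b ^ q)⁻¹ • f' := by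
  rw [act_dS, H.f'f hF, H.f'f', H.f'e hF, H.f'e' hF]
  module

theorem dS_perp (hF : Fintype.card F = q ^ 2) (H : LF q e f e' f') {a b : F} (ha : a ≠ 0) (hb : b ≠ 0)
    (hab : (a * b) ^ q = a * b) {v : Fin n → F} (h1 : hermForm n F q v e = 0) (h2 : hermForm n F q v f = 0)
    (h3 : hermForm n F q v e' = 0) (h4 : hermForm n F q v f' = 0) : act (H.dS hF a b ha hb hab) v = v := by
  rw [act_dS, h1, h2, h3, h4]
  module

/-- Decomposition of a vector along the frame. -/
theorem decomp (H : LF q e f e' f') (hF : Fintype.card F = q ^ 2) (v : Fin n → F) :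
    ∃ (u : Fin n → F) (a b c d : F), v = u + (a • e + b • f) + (c • e' + d • f') ∧ hermForm n F q u e = 0 ∧
      hermForm n F q u f = 0 ∧ hermForm n F q u e' = 0 ∧ hermForm n F q u f' = 0 := by
  refine ⟨v - hermForm n F q v e' • e - hermForm n F q v f' • f - hermForm n F q v e • e' - hermForm n F q v f • f',
    hermForm n F q v e', hermForm n F q v f', hermForm n F q v e, hermForm n F q v f, by abel, ?_, ?_, ?_, ?_⟩
  all_goals
    simp only [herm_sub_left, herm_smul_left, H.ee, H.ef, H.ff, H.fe hF, H.ee', H.ef', H.fe', H.ff', H.e'e hF,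
      H.e'f hF, H.f'e hF, H.f'f hF, H.e'e', H.e'f', H.f'f', H.f'e' hF]
    ring

/-- Two elements agreeing on the frame and on its orthogonal space are equal. -/
theorem ext (H : LF q e f e' f') (hF : Fintype.card F = q ^ 2) {g h : SU n F q} (h1 : act g e = act h e)
    (h2 : act g f = act h f) (h3 : act g e' = act h e') (h4 : act g f' = act h f')
    (h5 : ∀ v, hermForm n F q v e = 0 → hermForm n F q v f = 0 → hermForm n F q v e' = 0 →
      hermForm n F q v f' = 0 → act g v = act h v) : g = h := by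
  apply ext_act
  intro v
  obtain ⟨u, a, b, c, d, hv, k1, k2, k3, k4⟩ := H.decomp hF v
  rw [hv]
  simp only [act_add, act_smul, h1, h2, h3, h4, h5 u k1 k2 k3 k4]

omit [Fintype F] in
theorem act_pow {g : SU n F q} {v : Fin n → F} {c : F} (h : act g v = c • v) (k : ℕ) : act (g ^ k) v = c ^ k • v := by
  induction k with
  | zero => rw [pow_zero, pow_zero, act_one, one_smul]
  | succ k ih => rw [pow_succ, act_mul, h, act_smul, ih, smul_smul, pow_succ, mul_comm]

theorem dS_pow (hF : Fintype.card F = q ^ 2) (H : LF q e f e' f') {a b : F} (ha : a ≠ 0) (hb : b ≠ 0)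
    (hab : (a * b) ^ q = a * b) {k : ℕ} (hak : a ^ k = 1) (hbk : b ^ k = 1) : H.dS hF a b ha hb hab ^ k = 1 := by
  apply H.ext hF
  · rw [act_pow (H.dS_e hF ha hb hab), hak, one_smul, act_one]
  · rw [act_pow (H.dS_f hF ha hb hab), hbk, one_smul, act_one]
  · rw [act_pow (H.dS_e' hF ha hb hab), inv_pow, ← pow_mul, mul_comm q, pow_mul, hak, one_pow, inv_one, one_smul,
      act_one]
  · rw [act_pow (H.dS_f' hF ha hb hab), inv_pow, ← pow_mul, mul_comm q, pow_mul, hbk, one_pow, inv_one, one_smul,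
      act_one]
  · intro v h1 h2 h3 h4
    have h5 : act (H.dS hF a b ha hb hab) v = (1 : F) • v := by rw [H.dS_perp hF ha hb hab h1 h2 h3 h4, one_smul]
    rw [act_pow h5, one_pow, one_smul, act_one]

end LF

/-- Conjugation of a transvection by an element stabilising the point. -/
theorem conj_tS (hF : Fintype.card F = q ^ 2) (two : ∀ x : F, x + x = 0) (he : hermForm n F q e e = 0) {x a : F}
    (hx : x ^ q = x) {g : SU n F q} (hg : act g e = a • e) : g * tS hF e x * g⁻¹ = tS hF e (a * a ^ q * x) := by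
  rw [tS_eq hF (isSiegel_t two he hx), conj_siegel]
  apply ext_act
  intro v
  rw [act_siegel, act_tS hF two he (by rw [mul_pow, norm_pow_q hF, hx]), hg, act_zero, herm_zero_right hF,
    herm_smul_right]
  module

/-- Conjugation of `mS e f μ`. -/
theorem conj_mS (hF : Fintype.card F = q ^ 2) (two : ∀ x : F, x + x = 0) (he : hermForm n F q e e = 0)
    (hf : hermForm n F q f f = 0) (hef : hermForm n F q e f = 0) {μ a b : F} {g : SU n F q} (hg : act g e = a • e)
    (hg' : act g f = b • f) : g * mS hF e f μ * g⁻¹ = mS hF e f (a * b ^ q * μ) := by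
  rw [mS_eq hF (isSiegel_m hF he hf hef μ), conj_siegel]
  apply ext_act
  intro v
  rw [act_siegel, act_mS hF two he hf hef, act_smul, hg, hg']
  simp only [herm_smul_right, mul_pow, pow_q_pow_q hF, zero_mul, zero_sub, neg_two two]
  module

/-- **An element of odd order stabilising the point with a scalar of norm one centralises the double.** -/
theorem Dbl.comm_of_odd (hF : Fintype.card F = q ^ 2) (two : ∀ x : F, x + x = 0) (he : hermForm n F q e e = 0)
    (E : Emb t ι) {W : Subgroup G} (D : Dbl hF t ι e W) {g : SU n F q} {a : F} (hg : act g e = a • e)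
    (ha : a * a ^ q = 1) {k : ℕ} (hk : Odd k) (hgk : g ^ k = 1) :
    ∀ w ∈ W, ι (pr n F q g) * w = w * ι (pr n F q g) := by
  intro w hw
  set h := ι (pr n F q g) with hh
  have hn : ∀ x : F, x ^ q = x → h * ι (pr n F q (tS hF e x)) * h⁻¹ = ι (pr n F q (tS hF e x)) := by
    intro x hx
    rw [hh, ← map_inv, ← map_mul, ← map_mul, ← map_inv, ← map_mul, ← map_mul, conj_tS hF two he hx hg, ha, one_mul]
  have ht : h * t = t * h := E.comm _
  have ht' : h⁻¹ * t = t * h⁻¹ := by rw [inv_mul_eq_iff_eq_mul, ← mul_assoc, ht, mul_inv_cancel_right]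
  have hw' : h * w * h⁻¹ ∈ W := D.norm g a hg w hw
  obtain ⟨x, hx, hx2⟩ := D.dbl.brk w hw
  -- `w⁻¹ (h w h⁻¹)` commutes with `t`
  have h1 : t * (h * w * h⁻¹) * t = h * w * h⁻¹ * ι (pr n F q (tS hF e x)) := by
    calc t * (h * w * h⁻¹) * t = h * (t * w * t) * h⁻¹ := by
          rw [← mul_assoc, ← mul_assoc, ← ht, mul_assoc _ h⁻¹ t, ht']; group
      _ = h * w * h⁻¹ * (h * ι (pr n F q (tS hF e x)) * h⁻¹) := by rw [hx2]; group
      _ = _ := by rw [hn x hx]
  have ti : t⁻¹ = t := inv_eq_of_mul_eq_one_left E.tt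
  have h2 : t * (w⁻¹ * (h * w * h⁻¹)) * t = w⁻¹ * (h * w * h⁻¹) := by
    calc t * (w⁻¹ * (h * w * h⁻¹)) * t = (t⁻¹ * w * t⁻¹)⁻¹ * t⁻¹ * t⁻¹ * (t * (h * w * h⁻¹) * t) := by group
      _ = (t * w * t)⁻¹ * (t * (h * w * h⁻¹) * t) := by
          rw [ti, mul_assoc ((t * w * t)⁻¹) t t, E.tt, mul_one]
      _ = (w * ι (pr n F q (tS hF e x)))⁻¹ * (h * w * h⁻¹ * ι (pr n F q (tS hF e x))) := by rw [hx2, h1]
      _ = (ι (pr n F q (tS hF e x)))⁻¹ * (w⁻¹ * (h * w * h⁻¹) * ι (pr n F q (tS hF e x))) := by group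
      _ = w⁻¹ * (h * w * h⁻¹) := by
          rw [D.dbl.cn _ (mul_mem (inv_mem hw) hw') x hx, inv_mul_cancel_left]
  have h3 : t * (w⁻¹ * (h * w * h⁻¹)) = w⁻¹ * (h * w * h⁻¹) * t := by
    rw [← h2, mul_assoc (t * (w⁻¹ * (h * w * h⁻¹))) t t, E.tt, mul_one, h2]
  obtain ⟨y, hy, hy2⟩ := D.dbl.cent _ (mul_mem (inv_mem hw) hw') h3
  set z := ι (pr n F q (tS hF e y)) with hz
  have h4 : h * w * h⁻¹ = w * z := by rw [← hy2]; group
  have hzz : z * z = 1 := by
    rw [hz, ← map_mul, ← map_mul, ← LF.tS_add hF two he hy hy, two]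
    have h5 : tS hF e (0 : F) = 1 := by
      apply ext_act
      intro v
      rw [act_tS hF two he (zero_pow_q hF), act_one, zero_mul, zero_smul, add_zero]
    rw [h5, map_one, map_one]
  have h5 : ∀ k : ℕ, h ^ k * w * (h ^ k)⁻¹ = w * z ^ k := by
    intro k
    induction k with
    | zero => simp
    | succ k ih =>
      have h6 : h * z ^ k * h⁻¹ = z ^ k := by rw [← conj_pow, hn y hy]
      calc h ^ (k + 1) * w * (h ^ (k + 1))⁻¹ = h * (h ^ k * w * (h ^ k)⁻¹) * h⁻¹ := by rw [pow_succ']; group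
        _ = (h * w * h⁻¹) * (h * z ^ k * h⁻¹) := by rw [ih]; group
        _ = w * z ^ (k + 1) := by rw [h4, h6, pow_succ']; group
  have h6 := h5 k
  have h7 : h ^ k = 1 := by rw [hh, ← map_pow, ← map_pow, hgk, map_one, map_one]
  obtain ⟨j, rfl⟩ := hk
  have h8 : z ^ (2 * j + 1) = z := by rw [pow_succ, pow_mul, pow_two, hzz, one_pow, one_mul]
  rw [h7, h8, one_mul, inv_one, mul_one] at h6
  rw [← h6] at h4
  exact mul_inv_eq_iff_eq_mul.mp h4

namespace LF

/-- The torus element `diag(s, s⁻¹)`. -/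
theorem tor_aux (hF : Fintype.card F = q ^ 2) {s : F} (hs : s * s ^ q = 1) : s ≠ 0 ∧ s⁻¹ ≠ 0 ∧ (s * s⁻¹) ^ q = s * s⁻¹ := by
  have h0 : s ≠ 0 := by
    rintro rfl
    rw [zero_mul] at hs
    exact zero_ne_one hs
  refine ⟨h0, inv_ne_zero h0, ?_⟩
  rw [mul_inv_cancel₀ h0, one_pow]

theorem q_add_one_odd (hF : Fintype.card F = q ^ 2) (two : ∀ x : F, x + x = 0) : Odd (q + 1) := by
  rw [← Nat.not_even_iff_odd]
  intro h
  have h1 : Odd q := by
    rcases Nat.even_or_odd q with h2 | h2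
    · exact absurd h (by rw [Nat.even_add_one]; exact fun k => k h2)
    · exact h2
  have h2 : Odd (Fintype.card F) := by rw [hF]; exact h1.pow
  have h3 : ((Fintype.card F : ℕ) : F) = 0 := FiniteField.cast_card_eq_zero F
  obtain ⟨k, hk⟩ := h2
  rw [hk] at h3
  push_cast at h3
  have h4 : (2 : F) = 0 := by rw [← one_add_one_eq_two]; exact two 1
  rw [h4, zero_mul, zero_add] at h3
  exact one_ne_zero h3

/-- **`Tor` for a line frame.** -/
theorem tor (H : LF q e f e' f') (hF : Fintype.card F = q ^ 2) (two : ∀ x : F, x + x = 0) (hn : 3 ≤ n)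
    (E : Emb t ι) {Wp Wr : Subgroup G} (hp : Dbl hF t ι e Wp) (hr : Dbl hF t ι f Wr) {s : F} (hs : s * s ^ q = 1)
    (hs1 : s ≠ 1) :
    Tor (bar hF) t Wp Wr (fun x => ι (pr n F q (tS hF e x))) (fun y => ι (pr n F q (tS hF f y)))
      (fun μ => ι (pr n F q (mS hF e f μ)))
      (ι (pr n F q (H.dS hF s s⁻¹ (tor_aux hF hs).1 (tor_aux hF hs).2.1 (tor_aux hF hs).2.2))) := by
  obtain ⟨h0, h0', h1⟩ := tor_aux hF hs
  have hodd := q_add_one_odd hF two
  have hsq : s ^ (q + 1) = 1 := by rw [pow_succ, mul_comm]; exact hs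
  have hsq' : s⁻¹ ^ (q + 1) = 1 := by rw [inv_pow, hsq, inv_one]
  have hpow := H.dS_pow hF h0 h0' h1 hsq hsq'
  have hs' : s⁻¹ * s⁻¹ ^ q = 1 := by rw [inv_pow, ← mul_inv, hs, inv_one]
  have hsqi : s⁻¹ ^ q = s := by
    rw [inv_pow, inv_eq_iff_eq_inv]
    exact (eq_inv_of_mul_eq_one_right hs)
  have ge := H.dS_e hF h0 h0' h1
  have gf := H.dS_f hF h0 h0' h1
  refine ⟨E.comm _, hp.comm_of_odd hF two H.ee E ge hs hodd hpow,
    hr.comm_of_odd hF two H.ff E gf hs' hodd hpow, ?_⟩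
  intro x μ y hx hy h2
  have C := H.coord hF two hn E
  set h := ι (pr n F q (H.dS hF s s⁻¹ h0 h0' h1)) with hh
  have h3 : h * ι (pr n F q (tS hF e x)) * h⁻¹ = ι (pr n F q (tS hF e x)) := by
    rw [hh, ← map_inv, ← map_mul, ← map_mul, ← map_inv, ← map_mul, ← map_mul, conj_tS hF two H.ee hx ge, hs,
      one_mul]
  have h4 : h * ι (pr n F q (tS hF f y)) * h⁻¹ = ι (pr n F q (tS hF f y)) := by
    rw [hh, ← map_inv, ← map_mul, ← map_mul, ← map_inv, ← map_mul, ← map_mul, conj_tS hF two H.ff hy gf, hs',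
      one_mul]
  have h5 : h * ι (pr n F q (mS hF e f μ)) * h⁻¹ = ι (pr n F q (mS hF e f (s * s * μ))) := by
    rw [hh, ← map_inv, ← map_mul, ← map_mul, ← map_inv, ← map_mul, ← map_mul,
      conj_mS hF two H.ee H.ff H.ef ge gf, hsqi]
  have h6 : ι (pr n F q (tS hF e x)) * ι (pr n F q (mS hF e f (s * s * μ))) * ι (pr n F q (tS hF f y)) =
      ι (pr n F q (tS hF e x)) * ι (pr n F q (mS hF e f μ)) * ι (pr n F q (tS hF f y)) := by
    calc _ = (h * ι (pr n F q (tS hF e x)) * h⁻¹) * (h * ι (pr n F q (mS hF e f μ)) * h⁻¹) *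
          (h * ι (pr n F q (tS hF f y)) * h⁻¹) := by rw [h3, h4, h5]
      _ = (h * (ι (pr n F q (tS hF e x)) * ι (pr n F q (mS hF e f μ)) * ι (pr n F q (tS hF f y)))) * h⁻¹ := by
          group
      _ = _ := by rw [h2, mul_inv_cancel_right]
  have h7 := (Cfsg.Agent.OddHalf.D7.Uni.Line.A_inj C hx hy hx hy h6).2.1
  by_contra hμ
  have h8 : s * s = 1 := by
    have h9 : s * s * μ = 1 * μ := by rw [one_mul]; exact h7
    exact mul_right_cancel₀ hμ h9
  apply hs1
  have h9 : (s + 1) * (s + 1) = 0 := by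
    have h10 := two s
    have h11 := two 1
    linear_combination h8 + h10 + h11
  have h10 := mul_self_eq_zero.1 h9
  have h11 := eq_neg_of_add_eq_zero_left h10
  rwa [neg_two two] at h11

/-- `q > 2`: the scalar `a` on `E`. -/
theorem scal_aux {a : F} (ha : a ≠ 0) (haq : a ^ q = a) : (a * a) ^ q = a * a := by rw [mul_pow, haq]

end LF

end Cfsg.Agent.KFacts.UniTwo
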